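import Cfsg.Agent.H652.Four.Base
import Cfsg.Agent.S2544
import Cfsg.Agent.BpSpor.HeThree
import Cfsg.Agent.CharactersDeep.ColumnBessel
import Cfsg.Agent.M22.BDataOfBlocks

/-!
# `L₃(4)`: the class of elements of order three is not nilpotent modulo two (helper326)

* `conj_three`   : the elements of order three of `PSL(3,4)` are conjugate;
* `theta_three`  : an irreducible character of degree 64 has the value 1 on them;
* `nn_three`     : `NN M (cl x)` for `x` of order three in `PSL(3,4)`;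
* `nn_of_cent`   : if `P` is a 2-group and `C_G(P)/P ≅ PSL(3,4)`, then `NN M (cl x)` for `x` of order three in `C_G(P)`.
-/

set_option autoImplicit false

namespace Cfsg.Agent.H326.Four

open Subgroup Cfsg Matrix
open Cfsg.Agent.H652.Four
open Cfsg.Agent.SporadicA.FieldFour
open Cfsg.Agent.ONType.Psl Cfsg.Agent.ONType.PslCard
open Cfsg.Agent.CpAut.SmallP.PslFour (mk_eq_iff finite_PSL3)

/-! ### The group `E` of order nine -/

/-- the matrix of a three-cycle -/
def mB : Matrix (Fin 3) (Fin 3) F4 := ![![.z, .o, .z], ![.z, .z, .o], ![.o, .z, .z]]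

theorem det_mB : mB.det = 1 := by rw [Matrix.det_fin_three]; decide +kernel

/-- the three-cycle -/
def B : SL3 := ⟨mB, det_mB⟩

/-- conjugating matrices -/
def mG : Fin 3 → Fin 3 → Matrix (Fin 3) (Fin 3) F4
  | 0, 0 => 1
  | 0, 1 => ![![.v, .o, .w], ![.o, .v, .w], ![.w, .w, .w]]
  | 0, 2 => ![![.w, .v, .o], ![.o, .o, .o], ![.v, .w, .o]]
  | 1, 0 => ![![.z, .z, .w], ![.v, .z, .z], ![.z, .o, .z]]
  | 1, 1 => ![![.o, .v, .v], ![.v, .v, .o], ![.o, .w, .o]]
  | 1, 2 => ![![.w, .v, .v], ![.o, .o, .v], ![.o, .v, .o]]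
  | 2, 0 => ![![.z, .z, .v], ![.z, .o, .z], ![.w, .z, .z]]
  | 2, 1 => ![![.v, .o, .o], ![.w, .o, .w], ![.w, .w, .o]]
  | 2, 2 => ![![.w, .w, .v], ![.o, .v, .v], ![.w, .v, .w]]

theorem det_mG : ∀ i j : Fin 3, (mG i j).det = 1 := by
  intro i j
  rw [Matrix.det_fin_three]
  revert i j
  decide +kernel

/-- conjugating elements -/
def Gm (i j : Fin 3) : SL3 := ⟨mG i j, det_mG i j⟩

/-- the elements of `E` -/
def eE (i j : Fin 3) : PSL3 := (QuotientGroup.mk (H ^ (i : ℕ) * B ^ (j : ℕ)) : PSL3)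

theorem eE_mul_aux : ∀ i j k l : Fin 3, ∃ r : F4, r ^ 3 = 1 ∧
    hm ^ ((i + k : Fin 3) : ℕ) * mB ^ ((j + l : Fin 3) : ℕ) =
      r • (hm ^ (i : ℕ) * mB ^ (j : ℕ) * (hm ^ (k : ℕ) * mB ^ (l : ℕ))) := by
  decide +kernel

theorem eE_inj_aux : ∀ i j k l : Fin 3, (∃ r : F4, r ^ 3 = 1 ∧
    hm ^ (k : ℕ) * mB ^ (l : ℕ) = r • (hm ^ (i : ℕ) * mB ^ (j : ℕ))) → i = k ∧ j = l := by
  decide +kernel

theorem eE_conj_aux : ∀ i j : Fin 3, (i ≠ 0 ∨ j ≠ 0) → ∃ r : F4, r ^ 3 = 1 ∧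
    mG i j * hm = r • (hm ^ (i : ℕ) * mB ^ (j : ℕ) * mG i j) := by
  decide +kernel

theorem eE_mul (i j k l : Fin 3) : eE i j * eE k l = eE (i + k) (j + l) := by
  show (QuotientGroup.mk (H ^ (i : ℕ) * B ^ (j : ℕ) * (H ^ (k : ℕ) * B ^ (l : ℕ))) : PSL3) = QuotientGroup.mk _
  rw [mk_eq_iff]
  exact eE_mul_aux i j k l

theorem eE_inj {i j k l : Fin 3} (h : eE i j = eE k l) : i = k ∧ j = l := by
  have h' : (QuotientGroup.mk (H ^ (i : ℕ) * B ^ (j : ℕ)) : PSL3) = QuotientGroup.mk (H ^ (k : ℕ) * B ^ (l : ℕ)) := h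
  rw [mk_eq_iff] at h'
  exact eE_inj_aux i j k l h'

theorem eE_zero : eE 0 0 = 1 := by
  show (QuotientGroup.mk (H ^ 0 * B ^ 0) : PSL3) = 1
  rw [pow_zero, pow_zero, mul_one]
  rfl

theorem eE_conj {i j : Fin 3} (h : i ≠ 0 ∨ j ≠ 0) : IsConj (QuotientGroup.mk H : PSL3) (eE i j) := by
  rw [isConj_iff]
  refine ⟨QuotientGroup.mk (Gm i j), ?_⟩
  rw [mul_inv_eq_iff_eq_mul]
  symm
  show (QuotientGroup.mk (H ^ (i : ℕ) * B ^ (j : ℕ) * Gm i j) : PSL3) = QuotientGroup.mk (Gm i j * H)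
  rw [mk_eq_iff]
  exact eE_conj_aux i j h

/-- an elementary abelian group of order nine -/
def E : Subgroup PSL3 where
  carrier := {x | ∃ i j, x = eE i j}
  one_mem' := ⟨0, 0, eE_zero.symm⟩
  mul_mem' := by
    rintro _ _ ⟨i, j, rfl⟩ ⟨k, l, rfl⟩
    exact ⟨_, _, eE_mul i j k l⟩
  inv_mem' := by
    rintro _ ⟨i, j, rfl⟩
    refine ⟨-i, -j, ?_⟩
    rw [inv_eq_iff_mul_eq_one, eE_mul, add_neg_cancel, add_neg_cancel, eE_zero]

theorem mem_E {x : PSL3} : x ∈ E ↔ ∃ i j, x = eE i j := Iff.rfl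

theorem card_E : Nat.card E = 9 := by
  have h : Function.Bijective (fun p : Fin 3 × Fin 3 => (⟨eE p.1 p.2, p.1, p.2, rfl⟩ : E)) := by
    constructor
    · rintro ⟨i, j⟩ ⟨k, l⟩ h
      obtain ⟨h1, h2⟩ := eE_inj (Subtype.ext_iff.1 h)
      rw [Prod.mk.injEq]
      exact ⟨h1, h2⟩
    · rintro ⟨_, i, j, rfl⟩
      exact ⟨(i, j), rfl⟩
  rw [← Nat.card_congr (Equiv.ofBijective _ h)]
  simp

theorem conj_of_mem {x : PSL3} (hx : x ∈ E) (hx1 : x ≠ 1) : IsConj (QuotientGroup.mk H : PSL3) x := by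
  obtain ⟨i, j, rfl⟩ := hx
  apply eE_conj
  by_contra h
  rw [not_or, not_not, not_not] at h
  rw [h.1, h.2, eE_zero] at hx1
  exact hx1 rfl

theorem conj_H {x : PSL3} (hx : orderOf x = 3) : IsConj (QuotientGroup.mk H : PSL3) x := by
  have hf := finite_PSL3
  have h3 : Fact (Nat.Prime 3) := ⟨Nat.prime_three⟩
  have hE : IsPGroup 3 E := IsPGroup.of_card (n := 2) (by rw [card_E]; norm_num)
  have hx3 : IsPGroup 3 (zpowers x) := IsPGroup.of_card (n := 1) (by rw [Nat.card_zpowers, hx]; norm_num)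
  obtain ⟨P, hP⟩ := hE.exists_le_sylow
  obtain ⟨R, hR⟩ := hx3.exists_le_sylow
  have hPc : Nat.card P = 9 := by
    obtain ⟨n, hn⟩ := IsPGroup.iff_card.1 P.isPGroup'
    have hn' : Nat.card P = 3 ^ n := hn
    have h1 : Nat.card P ∣ 20160 := by
      rw [← card_PSL3]
      exact card_subgroup_dvd_card (P : Subgroup PSL3)
    have h2 : 9 ∣ Nat.card P := by
      rw [← card_E]
      exact card_dvd_of_le hP
    rw [hn'] at h1 h2 ⊢
    have h4 : n ≤ 2 := by
      by_contra hc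
      have h5 : 3 ^ 3 ∣ 20160 := (pow_dvd_pow 3 (show 3 ≤ n by omega)).trans h1
      norm_num at h5
    interval_cases n
    · norm_num at h2
    · norm_num at h2
    · norm_num
  have hEP : E = (P : Subgroup PSL3) := by
    apply Subgroup.eq_of_le_of_card_ge hP
    rw [card_E]
    exact le_of_eq hPc
  obtain ⟨g, hg⟩ := MulAction.exists_smul_eq PSL3 R P
  have hxR : x ∈ (R : Subgroup PSL3) := hR (mem_zpowers x)
  have hxE : g * x * g⁻¹ ∈ E := by
    rw [hEP, ← hg]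
    rw [Sylow.coe_subgroup_smul]
    exact Subgroup.smul_mem_pointwise_smul x (MulAut.conj g) (R : Subgroup PSL3) hxR
  have hne : g * x * g⁻¹ ≠ 1 := by
    intro h
    have h1 : x = 1 := by
      have : x = g⁻¹ * (g * x * g⁻¹) * g := by group
      rw [this, h]
      group
    rw [h1, orderOf_one] at hx
    omega
  refine (conj_of_mem hxE hne).trans ?_
  exact isConj_iff.2 ⟨g⁻¹, by group⟩

/-- **The elements of order three of `PSL(3,4)` are conjugate.** -/
theorem conj_three {x y : PSL3} (hx : orderOf x = 3) (hy : orderOf y = 3) : IsConj x y :=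
  (conj_H hx).symm.trans (conj_H hy)

/-! ### The Steinberg character -/

theorem order_H : orderOf (QuotientGroup.mk H : PSL3) = 3 := by
  have h3 : Fact (Nat.Prime 3) := ⟨Nat.prime_three⟩
  refine orderOf_eq_prime ?_ ?_
  · show (QuotientGroup.mk (H ^ 3) : PSL3) = 1
    rw [H_pow]
    rfl
  · intro h
    have h1 : eE 1 0 = eE 0 0 := by
      rw [eE_zero, ← h]
      show (QuotientGroup.mk (H ^ 1 * B ^ 0) : PSL3) = _
      rw [pow_one, pow_zero, mul_one]
    exact absurd (eE_inj h1).1 (by decide)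

theorem order_of_mem {x : PSL3} (hx : x ∈ E) (hx1 : x ≠ 1) : orderOf x = 3 := by
  obtain ⟨c, hc⟩ := isConj_iff.1 (conj_of_mem hx hx1)
  rw [← hc]
  exact (MulEquiv.orderOf_eq (MulAut.conj c) _).trans order_H

theorem exists_theta : ∃ χ : IrrCharacter PSL3, (χ : PSL3 → ℂ) 1 = 64 := by
  have hf := finite_PSL3
  have h2 : Fact (Nat.Prime 2) := ⟨Nat.prime_two⟩
  have hch : CharP F4 2 := by
    have : ∀ x : F4, x + x = 0 := by decide
    exact CharTwo.of_one_ne_zero_of_two_eq_zero one_ne_zero (by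
      have h := this 1
      rwa [one_add_one_eq_two] at h)
  obtain ⟨χ, hχ, hP⟩ := S2544.result (F := F4) 2 3 (by norm_num)
  obtain ⟨P⟩ : Nonempty (Sylow 2 PSL3) := inferInstance
  refine ⟨⟨χ, hχ⟩, ?_⟩
  show χ 1 = 64
  rw [(hP P).1]
  have h : Nat.card P = 2 ^ (Nat.card PSL3).factorization 2 := P.card_eq_multiplicity
  rw [h, card_PSL3]
  have h4 : (20160 : ℕ).factorization 2 = 6 := by
    rw [show (20160 : ℕ) = 2 ^ 6 * 315 by norm_num, Nat.factorization_mul (by norm_num) (by norm_num),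
      Finsupp.add_apply, Nat.factorization_pow, Finsupp.smul_apply,
      Nat.Prime.factorization_self Nat.prime_two, Nat.factorization_eq_zero_of_not_dvd (by norm_num)]
    norm_num
  rw [h4]
  norm_num

theorem theta_three (χ : IrrCharacter PSL3) (h64 : (χ : PSL3 → ℂ) 1 = 64) {x : PSL3} (hx : orderOf x = 3) :
    (χ : PSL3 → ℂ) x = 1 := by
  classical
  have hf := finite_PSL3
  have := Fintype.ofFinite E
  obtain ⟨m, hm⟩ := M22.BDataOfBlocks.exists_sum_eq (Characters.Core.isIrr_isCharacter χ.2) E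
  rw [card_E] at hm
  have h1 : ∀ y : E, y ≠ 1 → (χ : PSL3 → ℂ) y = (χ : PSL3 → ℂ) x := by
    intro y hy
    exact (Blocks.Basic.irr_isConj χ.2 (conj_three hx (order_of_mem y.2 (fun h => hy (Subtype.ext h))))).symm
  have h2 : ∑ y : E, (χ : PSL3 → ℂ) y = 64 + 8 * (χ : PSL3 → ℂ) x := by
    rw [← Finset.add_sum_erase Finset.univ _ (Finset.mem_univ (1 : E))]
    rw [Finset.sum_congr rfl (g := fun _ => (χ : PSL3 → ℂ) x) (fun y hy => h1 y (Finset.ne_of_mem_erase hy))]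
    rw [Finset.sum_const, Finset.card_erase_of_mem (Finset.mem_univ _), Finset.card_univ,
      ← Nat.card_eq_fintype_card, card_E]
    show (χ : PSL3 → ℂ) 1 + _ = _
    rw [h64]
    norm_num
  rw [hm] at h2
  have h3 : (χ : PSL3 → ℂ) x = (9 * (m : ℂ) - 64) / 8 := by
    push_cast at h2
    linear_combination (-(1 : ℂ) / 8) * h2
  -- integrality
  have hint : IsIntegral ℤ ((χ : PSL3 → ℂ) x) := Blocks.DefectCard.isIntegral_irr χ.2 x
  have hq : (χ : PSL3 → ℂ) x = (((9 * (m : ℚ) - 64) / 8 : ℚ) : ℂ) := by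
    rw [h3]
    push_cast
    ring
  rw [hq] at hint
  have hint' : IsIntegral ℤ ((9 * (m : ℚ) - 64) / 8) := by
    have hinj : Function.Injective (algebraMap ℚ ℂ) := (algebraMap ℚ ℂ).injective
    exact (isIntegral_algebraMap_iff hinj).1 (by simpa using hint)
  obtain ⟨c, hc⟩ := IsIntegrallyClosed.isIntegral_iff.1 hint'
  have hc' : (χ : PSL3 → ℂ) x = (c : ℂ) := by
    rw [hq, ← hc]
    simp
  have h8 : 8 * c = 9 * (m : ℤ) - 64 := by
    have h9 : (8 * c : ℚ) = 9 * (m : ℚ) - 64 := by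
      have : (c : ℚ) = (9 * (m : ℚ) - 64) / 8 := by simpa using hc
      rw [this]
      ring
    exact_mod_cast h9
  -- the bound
  have hb := CharactersDeep.ColumnBessel.sum_norm_sq_le {χ} x
  rw [Finset.sum_singleton, hc'] at hb
  have hd := BpSpor.LFour.card_three hx
  have h9 : Nat.card (centralizer ({x} : Set PSL3)) ≤ 9 := Nat.le_of_dvd (by norm_num) hd
  have hb' : (c : ℝ) ^ 2 ≤ 9 := by
    have h10 : ‖((c : ℤ) : ℂ)‖ ^ 2 = (c : ℝ) ^ 2 := by
      rw [Complex.norm_intCast, sq_abs]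
    rw [h10] at hb
    exact hb.trans (by exact_mod_cast h9)
  have hb2 : c ^ 2 ≤ 9 := by exact_mod_cast hb'
  have hc1 : c = 1 := by
    have h11 : c ≤ 3 := by nlinarith
    have h12 : -3 ≤ c := by nlinarith
    interval_cases c <;> omega
  rw [hc', hc1]
  norm_num

/-- **`PSL(3,4)`, elements of order three.** -/
theorem nn_three {M : Ideal AlgInt} (hM : IsPModular 2 M) {x : PSL3} (hx : orderOf x = 3) : NN M (cl x) := by
  have hf := finite_PSL3
  obtain ⟨χ, hχ⟩ := exists_theta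
  have hd := BpSpor.LFour.card_three hx
  have hci := card_mul_index (centralizer ({x} : Set PSL3))
  rw [card_PSL3] at hci
  obtain ⟨k, hk⟩ := hd
  have hidx : (centralizer ({x} : Set PSL3)).index = 2240 * k := by
    have hpos : 0 < Nat.card (centralizer ({x} : Set PSL3)) := Nat.card_pos
    apply Nat.eq_of_mul_eq_mul_left hpos
    rw [hci]
    calc 20160 = 9 * 2240 := by norm_num
      _ = Nat.card (centralizer ({x} : Set PSL3)) * k * 2240 := by rw [← hk]
      _ = _ := by ring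
  have hk9 : k ∣ 9 := Dvd.intro_left _ hk.symm
  refine NN.of_int hM χ (n := 35 * k) ?_ ?_
  · rw [Blocks.Basic.centralChar_def, theta_three χ hχ hx, hχ, hidx]
    push_cast
    ring
  · intro h
    have h2 : (2 : ℤ) ∣ (k : ℤ) := by
      have h3 : IsCoprime (2 : ℤ) 35 := by norm_num
      exact h3.dvd_of_dvd_mul_left (by exact_mod_cast h)
    have h3 : 2 ∣ k := by exact_mod_cast h2
    have h4 : 2 ∣ 9 := h3.trans hk9
    norm_num at h4

end Cfsg.Agent.H326.Four
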