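import Cfsg.Agent.H326.Four.Chain
import Cfsg.Agent.GTwoRows.ON
import Cfsg.Agent.ONType.Data
import Cfsg.Agent.S1170
import Cfsg.Agent.CpAut.SporThree.ON

/-!
# `Loc` for the O'Nan group (helper326)

`P = ⟨v⟩` of order four, `C(P) = J = 4·L₃(4)`.
-/

set_option autoImplicit false

namespace Cfsg.Agent.H326.Four.RowON

open Subgroup Cfsg
open Cfsg.Agent.H652.Four
open Cfsg.Agent.ONType.Psl (PSL3)
open Cfsg.Spor (ON)
open Cfsg.Agent.SporadicB.ON45Word (on)
open Cfsg.Agent.KFacts.ON.Struct Cfsg.Agent.KFacts.ON.Qs Cfsg.Agent.KFacts.ON.Words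
open Cfsg.Agent.KFacts.ON.Cent (hON finite_ON)

theorem s1170 : GTwoRows.ONQuot.H1170 := fun S A h1 h2 h3 => S1170.result S A h1 h2 h3

/-- the projection of `J` onto `PSL(3,4)` -/
theorem exists_proj : ∃ π : ↥J →* PSL3, Function.Surjective π ∧ π.ker = center ↥J := by
  have := finite_ON
  have hcyc : IsCyclic ↥(center ↥J) := by
    refine ⟨⟨⟨⟨v, vJ⟩, mem_center.2 (mem_zpowers v)⟩, fun x => ?_⟩⟩
    obtain ⟨k, hk⟩ := mem_zpowers_iff.1 (mem_center.1 x.2)
    exact ⟨k, Subtype.ext (Subtype.ext hk)⟩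
  obtain ⟨F, _, _, hF, ⟨p⟩⟩ := GTwoRows.ONQuot.quot s1170
  obtain ⟨π, c, z, hker, -, -, -⟩ := ONType.Data.exists_data hcyc GTwoRows.ONQuot.card_center qs.1.commutator_eq_top
    F hF p
  exact ⟨π, c.surj, hker⟩

theorem cent_eq : centralizer ((zpowers (v : ON) : Subgroup ON) : Set ON) = J := by
  ext x
  rw [mem_J, mem_centralizer_iff]
  constructor
  · intro h
    exact (h v (mem_zpowers v)).symm
  · rintro h _ ⟨k, rfl⟩
    exact ((show Commute x v from h).zpow_right k).symm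

theorem loc_model : Loc ON := by
  have := finite_ON
  obtain ⟨π, hs, hk⟩ := exists_proj
  have hord : orderOf (v : ON) = 2 ^ 2 := by
    have : Fact (Nat.Prime 2) := ⟨Nat.prime_two⟩
    refine orderOf_eq_prime_pow ?_ ?_
    · rw [pow_one, pow_two, vv]
      exact f_ne_one
    · rw [pow_succ, pow_one, pow_mul, pow_two v, vv, pow_two]
      exact ff
  refine loc_of_cent (P := zpowers (v : ON)) (n := 4) ?_ ?_ (π.comp (MulEquiv.subgroupCongr cent_eq).toMonoidHom)
    ?_ ?_ ?_ ?_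
  · exact IsPGroup.of_card (n := 2) (by rw [Nat.card_zpowers, hord])
  · rw [cent_eq, zpowers_le]
    exact vJ
  · exact hs.comp (MulEquiv.subgroupCongr cent_eq).surjective
  · intro c hc
    have h1 : (MulEquiv.subgroupCongr cent_eq) c ∈ π.ker := hc
    rw [hk] at h1
    apply cent_J
    intro y hy
    have h2 := mem_center_iff.1 h1 ⟨y, hy⟩
    exact (congrArg Subtype.val h2).symm
  · rw [hON.2]
    norm_num
  · intro x hx _ h
    exact CpAut.SporThree.ON.not_16 hx (by simpa using h)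

theorem loc_ON {S : Type*} [Group S] [Finite S] (h : Cfsg.Spor.IsoON S) : Loc S := by
  obtain ⟨e⟩ := h
  exact loc_of_equiv e loc_model

end Cfsg.Agent.H326.Four.RowON
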