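import Cfsg.Agent.H326.Four.Chain

/-!
# `Loc` for the Held group (helper326)

`P = V = O₂(C(a))` a four-group, `C(V) = L = 2²·L₃(4)`.
-/

set_option autoImplicit false

namespace Cfsg.Agent.H326.Four.RowHe

open Subgroup Cfsg
open Cfsg.Agent.H652.Four
open Cfsg.Agent.ONType.Psl (PSL3)
open Cfsg.Spor.He Cfsg.Agent.SporadicB.HePerm Cfsg.Agent.FixBN.HeStab
open Cfsg.Agent.KFacts.He.Lv Cfsg.Agent.KFacts.He.TwoACent Cfsg.Agent.KFacts.He.TwoAPlane

theorem cent_eq : centralizer (V : Set Spor.He) = L := by
  apply le_antisymm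
  · intro x hx
    have ha := mem_centralizer_iff.1 hx _ a_mem_V
    have hv := mem_centralizer_iff.1 hx _ v_mem_V
    rcases mem_C.1 (mem_C_of_comm ha.symm) with h | h
    · exact h
    · exfalso
      have h1 := L_comm_v h
      have h2 : s * v = v * s := by
        have h3 : x * (s * v) = x * (v * s) := by
          calc x * (s * v) = (x * s) * v := by group
            _ = v * (x * s) := h1
            _ = (v * x) * s := by group
            _ = (x * v) * s := by rw [hv]
            _ = x * (v * s) := by group
        exact mul_left_cancel h3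
      apply a_ne_one
      rw [← s_conj_v, h2]
      group
  · intro x hx
    rw [mem_centralizer_iff]
    intro y hy
    exact (mem_V.1 hy x hx).symm

theorem loc_model : Loc Spor.He := by
  have := BpSpor.HeThree.finite_he
  refine loc_of_cent (P := V) (n := 6) ?_ ?_ (Th.comp (MulEquiv.subgroupCongr cent_eq).toMonoidHom) ?_ ?_ ?_ ?_
  · exact IsPGroup.of_card (n := 2) (by rw [card_V]; norm_num)
  · rw [cent_eq]
    exact V_le_L
  · exact Th_surjective.comp (MulEquiv.subgroupCongr cent_eq).surjective
  · intro c hc
    have h1 : (MulEquiv.subgroupCongr cent_eq) c ∈ Th.ker := hc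
    rw [ker_Th] at h1
    exact mem_subgroupOf.1 h1
  · rw [KFacts.He.Classes.card_he]
    norm_num
  · intro x hx _ h
    exact BpSpor.Cen.not_dvd_of_bd Nat.prime_three (by norm_num) hx (fun t ht => BpSpor.HeThree.bd t ht)
      (by simpa using h)

theorem loc_He {S : Type*} [Group S] [Finite S] (h : Cfsg.Spor.IsoHe S) : Loc S := by
  obtain ⟨e⟩ := h
  exact loc_of_equiv e loc_model

end Cfsg.Agent.H326.Four.RowHe
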