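import Cfsg.Agent.H326.Four.Chain
import Cfsg.Agent.KFacts.SuzTwoB
import Cfsg.Agent.CpAutSuz.ThreeC

/-!
# `Loc` for the Suzuki group (helper326)

`L = ⟨a, b, c, f, g⟩ ≅ PSL(3,4)` through its action on 21 of the 1782 points (`isoL`); `P = V` a four-group with
`C(V) = V × L`.
-/

set_option autoImplicit false
set_option maxRecDepth 100000
set_option exponentiation.threshold 4000

namespace Cfsg.Agent.H326.Four.RowSuz

open Subgroup Cfsg
open Cfsg.Agent.H652.Four
open Cfsg.Spor Cfsg.Agent.Lib.PermNet Cfsg.Agent.Lib.PermNetOrbit Cfsg.Agent.SporadicRecognition.SuzPhi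
  Cfsg.Agent.SporadicRecognition.SuzBound Cfsg.Agent.SporadicRecognition.SuzOrder
  Cfsg.Agent.SuzThree.Nets Cfsg.Agent.SuzThree.Basic Cfsg.Agent.SuzThree.Elts
  Cfsg.Agent.SuzThree.CentA Cfsg.Agent.SuzThree.CentB
  Cfsg.Agent.SuzThree.QZero Cfsg.Agent.KFacts.SuzCent Cfsg.Agent.KFacts.SuzLFour Cfsg.Agent.KFacts.SuzTwoB
open Cfsg.Agent.SporadicA.FieldFour Cfsg.Agent.SporadicA.PlaneFour
open Cfsg.Agent.ONType.Psl (SL3 PSL3)
open Cfsg.Agent.KFacts.He.TwoAPlane (mulVec_eq isPlanePt_psl)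

/-- the point with the given number in the plane -/
def bt : List ℕ := [0, 0, 0, 1, 2, 16, 3, 31, 29, 7, 21, 36, 4, 9, 34, 6, 19, 80, 5, 10, 17, 11, 51, 0]

/-- the matrices of the generators -/
def mA : Matrix (Fin 3) (Fin 3) F4 := ![![.o, .z, .z], ![.w, .o, .z], ![.o, .z, .o]]
def mB' : Matrix (Fin 3) (Fin 3) F4 := ![![.z, .o, .z], ![.o, .z, .z], ![.z, .z, .o]]
def mC : Matrix (Fin 3) (Fin 3) F4 := ![![.o, .z, .z], ![.o, .o, .z], ![.v, .z, .o]]
def mF : Matrix (Fin 3) (Fin 3) F4 := ![![.o, .z, .z], ![.o, .o, .z], ![.w, .z, .o]]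
def mG' : Matrix (Fin 3) (Fin 3) F4 := ![![.o, .z, .z], ![.z, .z, .w], ![.z, .v, .z]]

theorem det_mA : mA.det = 1 := by rw [Matrix.det_fin_three]; decide +kernel
theorem det_mB' : mB'.det = 1 := by rw [Matrix.det_fin_three]; decide +kernel
theorem det_mC : mC.det = 1 := by rw [Matrix.det_fin_three]; decide +kernel
theorem det_mF : mF.det = 1 := by rw [Matrix.det_fin_three]; decide +kernel
theorem det_mG' : mG'.det = 1 := by rw [Matrix.det_fin_three]; decide +kernel

/-- the number of the point of the 1782 points attached to a point of the plane -/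
def bn (q : GolayPt) : ℕ := bt.getD (idx q) 0

theorem bn_inj {q r : GolayPt} (hq : IsPlanePt q) (hr : IsPlanePt r) (h : bn q = bn r) : q = r := by
  revert q r; decide +kernel

/-- the matrix induces the same permutation as the generator -/
def chkM (x : Suz.Gen) (M : Matrix (Fin 3) (Fin 3) F4) : Prop :=
  ∀ q : GolayPt, IsPlanePt q →
    SuzThree.Basic.mv (wd [x]) (bn q) (bn (ptOf (KFacts.He.TwoAPlane.mv M (rep q)))) = true

theorem chkA : chkM .a mA := by unfold chkM; decide +kernel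
theorem chkB : chkM .b mB' := by unfold chkM; decide +kernel
theorem chkC : chkM .c mC := by unfold chkM; decide +kernel
theorem chkF : chkM .f mF := by unfold chkM; decide +kernel
theorem chkG : chkM .g mG' := by unfold chkM; decide +kernel

/-- `x` acts on the 21 points as `γ` on the plane -/
def Rl (x : Suz) (γ : PSL3) : Prop := ∀ q : GolayPt, IsPlanePt q → φ x (bn q) = bn (pslHom γ q)

theorem Rl.one : Rl 1 1 := fun q _ => by rw [map_one, map_one]; rfl

theorem Rl.mul {x y : Suz} {γ δ : PSL3} (h1 : Rl x γ) (h2 : Rl y δ) : Rl (x * y) (γ * δ) := by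
  intro q hq
  rw [map_mul, Equiv.Perm.mul_apply, h2 q hq, h1 _ (isPlanePt_psl δ hq), map_mul, Equiv.Perm.mul_apply]

theorem Rl.inv {x : Suz} {γ : PSL3} (h : Rl x γ) : Rl x⁻¹ γ⁻¹ := by
  intro q hq
  rw [map_inv, Equiv.Perm.inv_eq_iff_eq, h _ (isPlanePt_psl _ hq), ← Equiv.Perm.mul_apply, ← map_mul, mul_inv_cancel,
    map_one]
  rfl

theorem Rl.unique {x : Suz} {γ δ : PSL3} (h1 : Rl x γ) (h2 : Rl x δ) : γ = δ := by
  apply pslHom_injective
  apply Equiv.ext
  intro q
  by_cases hq : IsPlanePt q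
  · have h3 := (h1 q hq).symm.trans (h2 q hq)
    exact bn_inj (isPlanePt_psl γ hq) (isPlanePt_psl δ hq) h3
  · obtain ⟨g, rfl⟩ := QuotientGroup.mk_surjective γ
    obtain ⟨g', rfl⟩ := QuotientGroup.mk_surjective δ
    exact (slHom_apply_of_not g _ hq).trans (slHom_apply_of_not g' _ hq).symm

theorem rl_of_chk {x : Suz.Gen} {M : Matrix (Fin 3) (Fin 3) F4} (h : chkM x M) (hM : M.det = 1) :
    Rl (el [x]) (QuotientGroup.mk (⟨M, hM⟩ : SL3)) := by
  intro q hq
  have h1 : pslHom (QuotientGroup.mk (⟨M, hM⟩ : SL3)) q = ptOf (KFacts.He.TwoAPlane.mv M (rep q)) := by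
    rw [← mulVec_eq]
    exact slHom_apply ⟨M, hM⟩ q hq
  rw [h1]
  exact (Rep.el [x]).pt (h q hq)

/-- the elements acting as elements of `PSL(3,4)` -/
def RR : Subgroup Suz where
  carrier := {x | ∃ γ : PSL3, Rl x γ}
  one_mem' := ⟨1, Rl.one⟩
  mul_mem' := by
    rintro x y ⟨γ, h1⟩ ⟨δ, h2⟩
    exact ⟨_, h1.mul h2⟩
  inv_mem' := by
    rintro x ⟨γ, h1⟩
    exact ⟨_, h1.inv⟩

theorem L_le_RR : L ≤ RR := by
  apply cl_le
  intro w hw
  simp only [gl, List.mem_cons, List.not_mem_nil, or_false] at hw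
  rcases hw with rfl | rfl | rfl | rfl | rfl
  · exact ⟨_, rl_of_chk chkA det_mA⟩
  · exact ⟨_, rl_of_chk chkB det_mB'⟩
  · exact ⟨_, rl_of_chk chkC det_mC⟩
  · exact ⟨_, rl_of_chk chkF det_mF⟩
  · exact ⟨_, rl_of_chk chkG det_mG'⟩

theorem exists_rl {x : Suz} (hx : x ∈ L) : ∃ γ : PSL3, Rl x γ := L_le_RR hx

/-- the homomorphism of `L` to `PSL(3,4)` -/
noncomputable def Th : ↥L →* PSL3 where
  toFun x := (exists_rl x.2).choose
  map_one' := Rl.unique (exists_rl L.one_mem).choose_spec Rl.one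
  map_mul' x y := Rl.unique (exists_rl (L.mul_mem x.2 y.2)).choose_spec
    ((exists_rl x.2).choose_spec.mul (exists_rl y.2).choose_spec)

theorem Th_spec (x : ↥L) : Rl x (Th x) := (exists_rl x.2).choose_spec

theorem bn_all : (∃ q : GolayPt, IsPlanePt q ∧ bn q = 0) ∧ (∃ q : GolayPt, IsPlanePt q ∧ bn q = 1) ∧
    (∃ q : GolayPt, IsPlanePt q ∧ bn q = 5) ∧ (∃ q : GolayPt, IsPlanePt q ∧ bn q = 2) := by decide +kernel

theorem stab_eq : stabL (φS L) [2, 5, 1, 0] = ⊥ := by
  have h1 := card_mul_L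
  rw [card_L] at h1
  have h2 : 0 < Nat.card (stabL (φS L) [2, 5, 1, 0]) := by
    have : Finite L := Nat.finite_of_card_ne_zero (by rw [card_L]; norm_num)
    exact Nat.card_pos
  have h3 : Nat.card (stabL (φS L) [2, 5, 1, 0]) = 1 := by omega
  exact (Subgroup.eq_bot_of_card_eq _ h3)

theorem Th_injective : Function.Injective Th := by
  rw [injective_iff_map_eq_one]
  intro x hx
  have h1 := Th_spec x
  rw [hx] at h1
  have h2 : x ∈ stabL (φS L) [2, 5, 1, 0] := by
    have key : ∀ p : ℕ, (∃ q : GolayPt, IsPlanePt q ∧ bn q = p) → φS L x p = p := by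
      rintro p ⟨q, hq, rfl⟩
      rw [φS_apply, h1 q hq, map_one]
      rfl
    intro q hq
    simp only [List.mem_cons, List.not_mem_nil, or_false] at hq
    obtain ⟨h0, h1', h5, h2'⟩ := bn_all
    rcases hq with rfl | rfl | rfl | rfl
    · exact key _ h2'
    · exact key _ h5
    · exact key _ h1'
    · exact key _ h0
  rw [stab_eq] at h2
  exact mem_bot.1 h2

theorem Th_bijective : Function.Bijective Th := by
  have hf := Cfsg.Agent.CpAut.SmallP.PslFour.finite_PSL3
  exact Th_injective.bijective_of_nat_card_le (by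
    rw [Cfsg.Agent.ONType.PslCard.card_PSL3, card_L])

/-- **`L ≅ PSL(3,4)`.** -/
noncomputable def isoL : ↥L ≃* PSL3 := MulEquiv.ofBijective Th Th_bijective

/-! ### `C(V) = V × L` -/

theorem cent_eq : centralizer (V : Set Suz) = VL := by
  apply le_antisymm
  · intro x hx
    have hxe : x * e0 = e0 * x := (mem_centralizer_iff.1 hx e0 (mem_V.2 (Or.inr (Or.inl rfl)))).symm
    have hx1 : e1 * x = x * e1 := mem_centralizer_iff.1 hx e1 (mem_V.2 (Or.inr (Or.inr (Or.inl rfl))))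
    by_contra hn
    have h1 : xe * x ∈ VL := by
      have h2 := (Subgroup.mul_mem_iff_of_index_two idx.1 (a := (⟨xe, xe_mem⟩ : CE)) (b := ⟨x, mem_CE.2 hxe⟩)).2 (by
        rw [Subgroup.mem_subgroupOf, Subgroup.mem_subgroupOf]
        exact ⟨fun h => absurd h xe_notin, fun h => absurd h hn⟩)
      exact Subgroup.mem_subgroupOf.1 h2
    have h3 := VL_cent h1 (mem_V.2 (Or.inr (Or.inr (Or.inl rfl))) : e1 ∈ V)
    have h4 : e2 = e1 := by
      have h5 : (e2 * xe) * x = (e1 * xe) * x := by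
        calc (e2 * xe) * x = (xe * e1) * x := by rw [xe_e1]
          _ = xe * (e1 * x) := by group
          _ = xe * (x * e1) := by rw [hx1]
          _ = (xe * x) * e1 := by group
          _ = e1 * (xe * x) := h3
          _ = (e1 * xe) * x := by group
      exact mul_right_cancel (mul_right_cancel h5)
    exact e12_ne h4.symm
  · intro x hx
    rw [mem_centralizer_iff]
    intro v hv
    exact (VL_cent hx hv).symm

theorem comm_VL' : ∀ (v : V) (l : L), Commute (V.subtype v) (L.subtype l) := fun v l => V_comm v v.2 l l.2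

/-- multiplication `V × L → Suz` -/
noncomputable def mu : ↥V × ↥L →* Suz := MonoidHom.noncommCoprod V.subtype L.subtype comm_VL'

theorem mu_apply (v : V) (l : L) : mu (v, l) = v * l := rfl

theorem mu_injective : Function.Injective mu := by
  rw [injective_iff_map_eq_one]
  rintro ⟨v, l⟩ h
  rw [mu_apply] at h
  have h1 : (v : Suz) = (l : Suz)⁻¹ := eq_inv_of_mul_eq_one_left h
  have h2 : (v : Suz) = 1 := V_cap_L v.2 (by rw [h1]; exact L.inv_mem l.2)
  have h3 : (l : Suz) = 1 := by rw [h2, one_mul] at h; exact h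
  exact Prod.ext (Subtype.ext h2) (Subtype.ext h3)

theorem mu_range : mu.range = centralizer (V : Set Suz) := by
  rw [cent_eq]
  ext x
  rw [mem_VL]
  constructor
  · rintro ⟨⟨v, l⟩, rfl⟩
    exact ⟨v, v.2, l, l.2, rfl⟩
  · rintro ⟨v, hv, l, hl, rfl⟩
    exact ⟨(⟨v, hv⟩, ⟨l, hl⟩), rfl⟩

/-- `V × L ≅ C(V)` -/
noncomputable def eqv : ↥V × ↥L ≃* centralizer (V : Set Suz) :=
  (MonoidHom.ofInjective mu_injective).trans (MulEquiv.subgroupCongr mu_range)

theorem eqv_apply (y : ↥V × ↥L) : (eqv y : Suz) = mu y := rfl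

/-- `C(V) → PSL(3,4)` -/
noncomputable def pr : centralizer (V : Set Suz) →* PSL3 :=
  (Th.comp (MonoidHom.snd ↥V ↥L)).comp eqv.symm.toMonoidHom

theorem pr_surjective : Function.Surjective pr := by
  intro γ
  obtain ⟨l, rfl⟩ := Th_bijective.2 γ
  refine ⟨eqv (1, l), ?_⟩
  show Th (eqv.symm (eqv (1, l))).2 = Th l
  rw [MulEquiv.symm_apply_apply]

theorem pr_ker (c : centralizer (V : Set Suz)) (hc : pr c = 1) : (c : Suz) ∈ V := by
  obtain ⟨⟨v, l⟩, rfl⟩ := eqv.surjective c
  have h1 : Th (eqv.symm (eqv (v, l))).2 = 1 := hc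
  rw [MulEquiv.symm_apply_apply] at h1
  have h2 : l = 1 := Th_injective (by rw [h1, map_one])
  rw [h2, eqv_apply, mu_apply]
  show (v : Suz) * 1 ∈ V
  rw [mul_one]
  exact v.2

theorem loc_model : Loc Suz := by
  have : Finite Suz := Nat.finite_of_card_ne_zero (by rw [card_Suz]; norm_num)
  refine loc_of_cent (P := V) (n := 4) ?_ ?_ pr pr_surjective pr_ker ?_ ?_
  · exact IsPGroup.of_card (n := 2) (by rw [card_V]; norm_num)
  · rw [cent_eq]
    exact V_le
  · rw [card_Suz]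
    norm_num
  · intro x hx hxC h
    have hxe : x * e0 = e0 * x := (mem_centralizer_iff.1 hxC e0 (mem_V.2 (Or.inr (Or.inl rfl)))).symm
    rw [CpAutSuz.ThreeC.card_of_comm hx hxe] at h
    norm_num at h

theorem loc_Suz {S : Type*} [Group S] [Finite S] (h : Cfsg.Spor.IsoSuz S) : Loc S := by
  obtain ⟨e⟩ := h
  exact loc_of_equiv e loc_model

end Cfsg.Agent.H326.Four.RowSuz
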