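import Cfsg.Agent.H326.Four.LThree

/-!
# From `C_G(P)/P ≅ PSL(3,4)` to `Loc G` (helper326)

* `nn_of_cent`   : if `P` is an abelian 2-group and `C_G(P)` has a homomorphism onto `PSL(3,4)` with kernel in `P`, then
  `NN M (cl x)` for `x` of order three in `C_G(P)`;
* `loc_of_equiv` : `Loc` is invariant under isomorphisms (any universes);
* `loc_of_cent`  : the same with the condition `4 ∣ |G : C(x)|`.
-/

set_option autoImplicit false

namespace Cfsg.Agent.H326.Four

open Subgroup Cfsg
open Cfsg.Agent.H652.Four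
open Cfsg.Agent.ONType.Psl (PSL3)
open Cfsg.Agent.Blocks.LocalRing

universe u v

section

variable {S : Type u} [Group S] [Finite S] {P : Subgroup S}

theorem mul_mem_of_three {z : S} (hP : IsPGroup 2 P) (hz : z ∈ P) (h3 : z ^ 3 = 1) : z = 1 := by
  obtain ⟨k, hk⟩ := hP ⟨z, hz⟩
  have hk' : z ^ 2 ^ k = 1 := by simpa using congrArg Subtype.val hk
  have h1 : orderOf z ∣ 3 := orderOf_dvd_of_pow_eq_one h3
  have h2 : orderOf z ∣ 2 ^ k := orderOf_dvd_of_pow_eq_one hk'
  have h3' : Nat.Coprime 3 (2 ^ k) := Nat.Coprime.pow_right k (by norm_num)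
  exact orderOf_eq_one_iff.1 (Nat.eq_one_of_dvd_coprimes h3' h1 h2)

theorem order_map (hP : IsPGroup 2 P) (φ : centralizer (P : Set S) →* PSL3) (hker : ∀ c, φ c = 1 → (c : S) ∈ P)
    {c : centralizer (P : Set S)} (hc : orderOf c = 3) : orderOf (φ c) = 3 := by
  have h3 : Fact (Nat.Prime 3) := ⟨Nat.prime_three⟩
  refine orderOf_eq_prime ?_ ?_
  · have h1 : c ^ 3 = 1 := by rw [← hc, pow_orderOf_eq_one]
    rw [← map_pow, h1, map_one]
  · intro h
    have h1 : (c : S) = 1 := mul_mem_of_three hP (hker c h) (by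
      rw [← Subgroup.coe_pow, ← hc, pow_orderOf_eq_one]
      rfl)
    have h2 : c = 1 := Subtype.ext h1
    rw [h2, orderOf_one] at hc
    omega

/-- the elements of order three of `C(P)` are conjugate -/
theorem conj_in_cent (hP : IsPGroup 2 P) (φ : centralizer (P : Set S) →* PSL3) (hφ : Function.Surjective φ)
    (hker : ∀ c, φ c = 1 → (c : S) ∈ P) {c d : centralizer (P : Set S)} (hc : orderOf c = 3) (hd : orderOf d = 3) :
    IsConj c d := by
  obtain ⟨g', hg'⟩ := isConj_iff.1 (conj_three (order_map hP φ hker hc) (order_map hP φ hker hd))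
  obtain ⟨g, rfl⟩ := hφ g'
  refine isConj_iff.2 ⟨g, ?_⟩
  set y := g * c * g⁻¹ with hy
  have hy3 : y ^ 3 = 1 := by
    rw [hy, conj_pow, ← hc, pow_orderOf_eq_one, mul_one, mul_inv_cancel]
  have hzk : φ (y⁻¹ * d) = 1 := by
    rw [map_mul, map_inv, hy, map_mul, map_mul, map_inv, hg', inv_mul_cancel]
  have hzP := hker _ hzk
  have hcomm : y * (y⁻¹ * d) = (y⁻¹ * d) * y := by
    apply Subtype.ext
    exact (mem_centralizer_iff.1 y.2 _ hzP).symm
  have hd3 : d ^ 3 = 1 := by rw [← hd, pow_orderOf_eq_one]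
  have hz3 : (y⁻¹ * d) ^ 3 = 1 := by
    have h1 : d = y * (y⁻¹ * d) := by group
    have h2 : d ^ 3 = y ^ 3 * (y⁻¹ * d) ^ 3 := by
      conv_lhs => rw [h1]
      exact (show Commute y (y⁻¹ * d) from hcomm).mul_pow 3
    rw [hd3, hy3, one_mul] at h2
    exact h2.symm
  have h1 : ((y⁻¹ * d : centralizer (P : Set S)) : S) = 1 := mul_mem_of_three hP hzP (by
    rw [← Subgroup.coe_pow, hz3]
    rfl)
  have h2 : y⁻¹ * d = 1 := Subtype.ext h1
  exact (inv_mul_eq_one.1 h2)

/-- **`C_G(P)/P ≅ PSL(3,4)`.** -/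
theorem nn_of_cent {M : Ideal AlgInt} (hM : IsPModular 2 M) (hP : IsPGroup 2 P)
    (hPC : P ≤ centralizer (P : Set S)) (φ : centralizer (P : Set S) →* PSL3)
    (hφ : Function.Surjective φ) (hker : ∀ c, φ c = 1 → (c : S) ∈ P) {x : S} (hx : orderOf x = 3)
    (hxC : x ∈ centralizer (P : Set S)) : NN M (cl x) := by
  classical
  have hx' : orderOf (⟨x, hxC⟩ : centralizer (P : Set S)) = 3 := by rw [Subgroup.orderOf_mk]; exact hx
  refine NN.brauer hM hP hPC (fun g y => cl_conj x y g) (fun g => ?_) ?_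
  · by_cases h : IsConj x g
    · rw [cl_pos h]
      simpa using memLocalRing_natCast hM 1
    · rw [cl_neg h]
      simpa using memLocalRing_natCast hM 0
  · have he : (fun h : centralizer (P : Set S) => cl x (h : S)) = cl (⟨x, hxC⟩ : centralizer (P : Set S)) := by
      funext h
      by_cases hc : IsConj (⟨x, hxC⟩ : centralizer (P : Set S)) h
      · rw [cl_pos hc, cl_pos]
        exact (centralizer (P : Set S)).subtype.map_isConj hc
      · rw [cl_neg hc, cl_neg]
        intro hc'
        apply hc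
        refine conj_in_cent hP φ hφ hker hx' ?_
        obtain ⟨g, hg⟩ := isConj_iff.1 hc'
        rw [← Subgroup.orderOf_coe, ← hg]
        exact (MulEquiv.orderOf_eq (MulAut.conj g) x).trans hx
    rw [he]
    refine NN.quot_central (p := 2) hφ ?_ ?_ (by rw [hx']; norm_num) (nn_three hM (order_map hP φ hker hx'))
    · intro c hc
      rw [mem_center_iff]
      intro g
      apply Subtype.ext
      exact (mem_centralizer_iff.1 g.2 _ (hker c hc)).symm
    · intro c
      obtain ⟨k, hk⟩ := hP ⟨((c : centralizer (P : Set S)) : S), hker c c.2⟩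
      refine ⟨k, Subtype.ext (Subtype.ext ?_)⟩
      simpa using congrArg Subtype.val hk

end

/-- `Loc` is invariant under isomorphisms -/
theorem loc_of_equiv {G : Type u} {Q : Type v} [Group G] [Finite G] [Group Q] (e : G ≃* Q) (h : Loc Q) : Loc G := by
  obtain ⟨x, hx, hM⟩ := h
  refine ⟨e.symm x, ?_, fun M h2 => NN.of_equiv e ?_⟩
  · have e1 : Subgroup.centralizer ({e.symm x} : Set G) =
        (Subgroup.centralizer ({x} : Set Q)).comap e.toMonoidHom := by
      ext g
      rw [Subgroup.mem_comap, Subgroup.mem_centralizer_singleton_iff,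
        Subgroup.mem_centralizer_singleton_iff]
      constructor
      · intro h
        have := congrArg e h
        simpa using this
      · intro h
        apply e.injective
        simpa using h
    rw [e1, Subgroup.index_comap_of_surjective _ e.surjective]
    exact hx
  · rw [e.apply_symm_apply]
    exact hM M h2

/-- the index is divisible by four -/
theorem four_dvd_index {S : Type u} [Group S] [Finite S] {H : Subgroup S} {n : ℕ} (hS : 2 ^ (n + 1) ∣ Nat.card S)
    (hH : ¬ 2 ^ n ∣ Nat.card H) : 4 ∣ H.index := by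
  have h1 := card_mul_index H
  have hH0 : Nat.card H ≠ 0 := Nat.card_pos.ne'
  obtain ⟨a, m, hm, ha⟩ := Nat.exists_eq_pow_mul_and_not_dvd hH0 2 (by norm_num)
  have han : a < n := by
    by_contra hc
    apply hH
    rw [ha]
    exact Dvd.dvd.mul_right (pow_dvd_pow 2 (not_lt.1 hc)) m
  rw [← h1, ha] at hS
  have h2 : 2 ^ (n + 1) = 2 ^ a * 2 ^ (n + 1 - a) := by rw [← pow_add]; congr 1; omega
  rw [h2, mul_assoc] at hS
  have h3 : 2 ^ (n + 1 - a) ∣ m * H.index := Nat.dvd_of_mul_dvd_mul_left (by positivity) hS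
  have h4 : Nat.Coprime (2 ^ (n + 1 - a)) m :=
    Nat.Coprime.pow_left _ ((Nat.Prime.coprime_iff_not_dvd Nat.prime_two).2 hm)
  have h5 : 2 ^ (n + 1 - a) ∣ H.index := h4.dvd_of_dvd_mul_left h3
  have h6 : 2 ^ 2 ∣ 2 ^ (n + 1 - a) := pow_dvd_pow 2 (by omega)
  simpa using h6.trans h5

theorem loc_of_cent {S : Type u} [Group S] [Finite S] {P : Subgroup S} (hP : IsPGroup 2 P)
    (hPC : P ≤ centralizer (P : Set S)) (φ : centralizer (P : Set S) →* PSL3)
    (hφ : Function.Surjective φ) (hker : ∀ c, φ c = 1 → (c : S) ∈ P) {n : ℕ} (hS : 2 ^ (n + 1) ∣ Nat.card S)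
    (hn : ∀ x : S, orderOf x = 3 → x ∈ centralizer (P : Set S) →
      ¬ 2 ^ n ∣ Nat.card (centralizer ({x} : Set S))) : Loc S := by
  have h3 : Fact (Nat.Prime 3) := ⟨Nat.prime_three⟩
  have hc : 3 ∣ Nat.card (centralizer (P : Set S)) := by
    have h1 : Nat.card PSL3 ∣ Nat.card (centralizer (P : Set S)) := card_dvd_of_surjective φ hφ
    have h2 : 3 ∣ Nat.card PSL3 := by
      rw [Cfsg.Agent.ONType.PslCard.card_PSL3]
      norm_num
    exact h2.trans h1
  obtain ⟨c, hc⟩ := exists_prime_orderOf_dvd_card' 3 hc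
  have hx : orderOf (c : S) = 3 := by rw [Subgroup.orderOf_coe]; exact hc
  exact ⟨c, four_dvd_index hS (hn c hx c.2), fun M hM => nn_of_cent hM hP hPC φ hφ hker hx c.2⟩

end Cfsg.Agent.H326.Four
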